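import Cfsg.Agent.TitsThree.RankTwoIdx
import Cfsg.Prelude.Def_LieRecognition

/-!
# The (B,N)-pair of a root datum of rank two (helper870)

`Core m Y` (positive part `U`, torus `H`, two reflections satisfying the braid relation of length `m` modulo `H`) with
`m ≥ 2`, `nI, nJ ∉ U H` and generating `Y` gives a (B,N)-pair of rank two with `B = U H`, `N = ⟨H, nI, nJ⟩`,
`B ∩ N = H`; it is split if `U` is nilpotent.
-/

set_option autoImplicit false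

namespace Cfsg.Agent.Close.CoreBN

open Cfsg.Agent.TitsThree.RankTwoRGD

universe u

variable {m : ℕ} {Y : Type u} [Group Y] (c : Core m Y)

theorem isW_mul_H {w h : Y} (hw : c.IsW w) (hh : h ∈ c.H) : c.IsW (w * h) := by
  obtain ⟨k, hk, g, hg, e | e⟩ := hw
  · exact ⟨k, hk, g * h, c.H.mul_mem hg hh, Or.inl (by rw [e, mul_assoc])⟩
  · exact ⟨k, hk, g * h, c.H.mul_mem hg hh, Or.inr (by rw [e, mul_assoc])⟩

theorem isW_H {h : Y} (hh : h ∈ c.H) : c.IsW h := by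
  have := isW_mul_H c c.isW_one hh
  rwa [one_mul] at this

theorem isW_H_mul {w h : Y} (hw : c.IsW w) (hh : h ∈ c.H) : c.IsW (h * w) := by
  have h1 := isW_mul_H c hw (hw.conj_H c h hh)
  have e : w * (w⁻¹ * h * w) = h * w := by group
  rwa [e] at h1

theorem isW_alt_mul (hm : 1 ≤ m) {w : Y} (hw : c.IsW w) (k : ℕ) :
    c.IsW (alt c.nI c.nJ k * w) ∧ c.IsW (alt c.nJ c.nI k * w) := by
  induction k with
  | zero => simpa using hw
  | succ k ih =>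
    constructor
    · rw [alt_succ, mul_assoc]
      exact Core.IsW.mulI c hm ih.2
    · rw [alt_succ, mul_assoc]
      exact Core.IsW.mulJ c hm ih.1

theorem isW_mul (hm : 1 ≤ m) {v w : Y} (hv : c.IsW v) (hw : c.IsW w) : c.IsW (v * w) := by
  obtain ⟨k, hk, g, hg, e | e⟩ := hv
  · rw [e, mul_assoc]
    exact (isW_alt_mul c hm (isW_H_mul c hw hg) k).1
  · rw [e, mul_assoc]
    exact (isW_alt_mul c hm (isW_H_mul c hw hg) k).2

theorem isW_nI (hm : 1 ≤ m) : c.IsW c.nI := by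
  have := Core.IsW.mulI c hm c.isW_one
  rwa [mul_one] at this

theorem isW_nJ (hm : 1 ≤ m) : c.IsW c.nJ := by
  have := Core.IsW.mulJ c hm c.isW_one
  rwa [mul_one] at this

theorem isW_nI_inv (hm : 1 ≤ m) : c.IsW c.nI⁻¹ := by
  have h1 := isW_mul_H c (isW_nI c hm) (c.H.inv_mem c.sI.n_sq)
  have e : c.nI * (c.nI * c.nI)⁻¹ = c.nI⁻¹ := by group
  rwa [e] at h1

theorem isW_nJ_inv (hm : 1 ≤ m) : c.IsW c.nJ⁻¹ := by
  have h1 := isW_mul_H c (isW_nJ c hm) (c.H.inv_mem c.sJ.n_sq)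
  have e : c.nJ * (c.nJ * c.nJ)⁻¹ = c.nJ⁻¹ := by group
  rwa [e] at h1

theorem isW_alt_inv (hm : 1 ≤ m) (k : ℕ) :
    c.IsW (alt c.nI c.nJ k)⁻¹ ∧ c.IsW (alt c.nJ c.nI k)⁻¹ := by
  induction k with
  | zero => simpa using c.isW_one
  | succ k ih =>
    constructor
    · rw [alt_succ, mul_inv_rev]
      exact isW_mul c hm ih.2 (isW_nI_inv c hm)
    · rw [alt_succ, mul_inv_rev]
      exact isW_mul c hm ih.1 (isW_nJ_inv c hm)

theorem isW_inv (hm : 1 ≤ m) {w : Y} (hw : c.IsW w) : c.IsW w⁻¹ := by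
  obtain ⟨k, hk, g, hg, e | e⟩ := hw
  · rw [e, mul_inv_rev]
    exact isW_mul c hm (isW_H c (c.H.inv_mem hg)) (isW_alt_inv c hm k).1
  · rw [e, mul_inv_rev]
    exact isW_mul c hm (isW_H c (c.H.inv_mem hg)) (isW_alt_inv c hm k).2

/-- The group `N`. -/
def N (hm : 1 ≤ m) : Subgroup Y where
  carrier := {w | c.IsW w}
  mul_mem' := fun ha hb => isW_mul c hm ha hb
  one_mem' := c.isW_one
  inv_mem' := fun ha => isW_inv c hm ha

theorem mem_N {hm : 1 ≤ m} {w : Y} : w ∈ N c hm ↔ c.IsW w := Iff.rfl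

theorem D_inf_N (hm : 1 ≤ m) (hI : c.nI ∉ c.D) (hJ : c.nJ ∉ c.D) : c.D ⊓ N c hm = c.H := by
  apply le_antisymm
  · rintro w ⟨h1, h2⟩
    exact Core.IsW.mem_H c le_rfl hI hJ h2 h1
  · intro h hh
    exact ⟨c.H_le hh, isW_H c hh⟩

theorem alt_mem {S : Subgroup Y} (hI : c.nI ∈ S) (hJ : c.nJ ∈ S) (k : ℕ) :
    alt c.nI c.nJ k ∈ S ∧ alt c.nJ c.nI k ∈ S := by
  induction k with
  | zero => simpa using S.one_mem
  | succ k ih => exact ⟨S.mul_mem hI ih.2, S.mul_mem hJ ih.1⟩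

theorem N_le {hm : 1 ≤ m} {S : Subgroup Y} (hI : c.nI ∈ S) (hJ : c.nJ ∈ S) (hH : c.H ≤ S) : N c hm ≤ S := by
  rintro w ⟨k, hk, g, hg, e | e⟩
  · rw [e]; exact S.mul_mem (alt_mem c hI hJ k).1 (hH hg)
  · rw [e]; exact S.mul_mem (alt_mem c hI hJ k).2 (hH hg)

theorem sup_eq (hm : 1 ≤ m) : c.D ⊔ N c hm = c.G := by
  apply le_antisymm
  · refine sup_le c.D_le (N_le c c.nI_mem c.nJ_mem (c.H_le.trans c.D_le))
  · refine sup_le le_sup_left (sup_le ?_ ?_)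
    · intro a ha
      have h1 : c.nI * a * c.nI⁻¹ ∈ c.D ⊔ N c hm := le_sup_left (a := c.D) (c.U_le (c.sI.A_le (c.sI.nA' a ha)))
      have h2 : c.nI ∈ c.D ⊔ N c hm := le_sup_right (a := c.D) (isW_nI c hm : c.nI ∈ N c hm)
      have e : c.nI⁻¹ * (c.nI * a * c.nI⁻¹) * c.nI = a := by group
      rw [← e]
      exact mul_mem (mul_mem (inv_mem h2) h1) h2
    · intro a ha
      have h1 : c.nJ * a * c.nJ⁻¹ ∈ c.D ⊔ N c hm := le_sup_left (a := c.D) (c.U_le (c.sJ.A_le (c.sJ.nA' a ha)))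
      have h2 : c.nJ ∈ c.D ⊔ N c hm := le_sup_right (a := c.D) (isW_nJ c hm : c.nJ ∈ N c hm)
      have e : c.nJ⁻¹ * (c.nJ * a * c.nJ⁻¹) * c.nJ = a := by group
      rw [← e]
      exact mul_mem (mul_mem (inv_mem h2) h1) h2

theorem AI'_not_le (hI : c.nI ∉ c.D) : ¬ c.AI' ≤ c.D := fun h =>
  hI (c.sI.mem_of_le (c.sI.A_le.trans c.U_le) h)

theorem AJ'_not_le (hJ : c.nJ ∉ c.D) : ¬ c.AJ' ≤ c.D := fun h =>
  hJ (c.sJ.mem_of_le (c.sJ.A_le.trans c.U_le) h)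

theorem not_mem_ne (h2 : 2 ≤ m) (hI : c.nI ∉ c.D) : c.nI⁻¹ * c.nJ ∉ c.H := by
  intro hh
  apply AI'_not_le c hI
  intro a ha
  have h1 : c.nI * a * c.nI⁻¹ ∈ c.AI := c.sI.nA' a ha
  have h3 := c.posI 1 (by omega) _ h1
  have e0 : alt c.nJ c.nI 1 = c.nJ := by simp [alt]
  rw [e0] at h3
  have h4 := c.HU _ hh _ h3
  have e : c.nI⁻¹ * c.nJ * (c.nJ⁻¹ * (c.nI * a * c.nI⁻¹) * c.nJ) * (c.nI⁻¹ * c.nJ)⁻¹ = a := by group
  rw [e] at h4
  exact c.U_le h4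

theorem bn3 (hm : 1 ≤ m) {n b : Y} (hn : c.IsW n) (hb : b ∈ c.D) :
    c.nI * b * n ∈ DoubleCoset.doubleCoset (c.nI * n) (c.D : Set Y) c.D ∪
      DoubleCoset.doubleCoset n (c.D : Set Y) c.D := by
  obtain ⟨u, hu, h, hh, rfl⟩ := c.mem_D.1 hb
  obtain ⟨b1, hb1, w', hw', b', hb', e⟩ := c.sI.mul_rule (Core.IsW.conj_H c hn) (Core.IsW.signI c hn) hu hh
  rcases hw' with rfl | rfl
  · right
    exact DoubleCoset.mem_doubleCoset.2 ⟨b1, hb1, b', hb', e⟩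
  · left
    exact DoubleCoset.mem_doubleCoset.2 ⟨b1, hb1, b', hb', e⟩

theorem bn3' (hm : 1 ≤ m) {n b : Y} (hn : c.IsW n) (hb : b ∈ c.D) :
    c.nJ * b * n ∈ DoubleCoset.doubleCoset (c.nJ * n) (c.D : Set Y) c.D ∪
      DoubleCoset.doubleCoset n (c.D : Set Y) c.D :=
  bn3 c.symm hm (c.isW_symm.2 hn) hb

theorem conj_ne_aux {n : Y} {A A' : Subgroup Y} (hA : A ≤ c.D) (hn2 : n * n ∈ c.D)
    (hA' : ∀ a ∈ A', n * a * n⁻¹ ∈ A) (hnot : ¬ A' ≤ c.D) :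
    (fun b : Y => n * b * n) '' (c.D : Set Y) ≠ (c.D : Set Y) := by
  intro he
  apply hnot
  intro a ha
  have h1 : n * a * n⁻¹ ∈ c.D := hA (hA' a ha)
  have h2 : n * ((n * n)⁻¹ * (n * a * n⁻¹)) * n ∈ (c.D : Set Y) := by
    rw [← he]
    exact ⟨_, mul_mem (inv_mem hn2) h1, rfl⟩
  have e : n * ((n * n)⁻¹ * (n * a * n⁻¹)) * n = a := by group
  rwa [e] at h2

/-- **The (B,N)-pair.** -/
def bnPair (h2 : 2 ≤ m) (hI : c.nI ∉ c.D) (hJ : c.nJ ∉ c.D) (hG : c.G = ⊤) : Cfsg.BNPair Y where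
  B := c.D
  N := N c (by omega)
  S := {c.nI, c.nJ}
  sup_eq_top := by rw [sup_eq, hG]
  conj_mem := by
    intro n hn t ht
    rw [D_inf_N c (by omega) hI hJ] at ht
    have h1 := Core.IsW.conj_H c (isW_inv c (by omega) hn) t ht
    rw [inv_inv] at h1
    exact c.H_le h1
  subset := by
    rintro _ (rfl | rfl)
    · exact isW_nI c (by omega)
    · exact isW_nJ c (by omega)
  sq_mem := by
    rintro _ (rfl | rfl)
    · exact c.H_le c.sI.n_sq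
    · exact c.H_le c.sJ.n_sq
  inj := by
    have key : c.nI⁻¹ * c.nJ ∉ c.D := by
      intro h
      apply not_mem_ne c h2 hI
      rw [← D_inf_N c (by omega) hI hJ]
      exact ⟨h, isW_mul c (by omega) (isW_nI_inv c (by omega)) (isW_nJ c (by omega))⟩
    rintro _ (rfl | rfl) _ (rfl | rfl) h
    · rfl
    · exact absurd h key
    · refine absurd ?_ key
      have h3 := inv_mem h
      rwa [mul_inv_rev, inv_inv] at h3
    · rfl
  closure_sup := by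
    rw [D_inf_N c (by omega) hI hJ]
    apply le_antisymm
    · refine sup_le ((Subgroup.closure_le _).2 ?_) (fun h hh => isW_H c hh)
      rintro _ (rfl | rfl)
      · exact isW_nI c (by omega)
      · exact isW_nJ c (by omega)
    · refine N_le c ?_ ?_ le_sup_right
      · exact le_sup_left (a := Subgroup.closure {c.nI, c.nJ}) (Subgroup.subset_closure (Or.inl rfl))
      · exact le_sup_left (a := Subgroup.closure {c.nI, c.nJ}) (Subgroup.subset_closure (Or.inr rfl))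
  mul_mem_union := by
    rintro _ (rfl | rfl) n hn b hb
    · exact bn3 c (by omega) hn hb
    · exact bn3' c (by omega) hn hb
  conj_ne := by
    rintro _ (rfl | rfl)
    · exact conj_ne_aux c (c.sI.A_le.trans c.U_le) (c.H_le c.sI.n_sq) c.sI.nA' (AI'_not_le c hI)
    · exact conj_ne_aux c (c.sJ.A_le.trans c.U_le) (c.H_le c.sJ.n_sq) c.sJ.nA' (AJ'_not_le c hJ)

theorem nI_ne_nJ (h2 : 2 ≤ m) (hI : c.nI ∉ c.D) : c.nI ≠ c.nJ := by
  intro h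
  apply not_mem_ne c h2 hI
  rw [← h, inv_mul_cancel]
  exact one_mem _

theorem rank_bnPair (h2 : 2 ≤ m) (hI : c.nI ∉ c.D) (hJ : c.nJ ∉ c.D) (hG : c.G = ⊤) :
    (bnPair c h2 hI hJ hG).rank = 2 := by
  change Nat.card ({c.nI, c.nJ} : Set Y) = 2
  rw [Nat.card_coe_set_eq]
  exact Set.ncard_pair (nI_ne_nJ c h2 hI)

theorem isSplit_bnPair (h2 : 2 ≤ m) (hI : c.nI ∉ c.D) (hJ : c.nJ ∉ c.D) (hG : c.G = ⊤)
    (hU : Group.IsNilpotent c.U) : (bnPair c h2 hI hJ hG).IsSplit := by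
  refine ⟨c.U, c.U_le, ?_, hU, ?_⟩
  · intro b hb u hu
    obtain ⟨v, hv, h, hh, rfl⟩ := c.mem_D.1 hb
    have h1 := c.U.mul_mem (c.U.mul_mem hv (c.HU h hh u hu)) (c.U.inv_mem hv)
    have e : v * (h * u * h⁻¹) * v⁻¹ = v * h * u * (v * h)⁻¹ := by group
    rwa [e] at h1
  · have hm : 1 ≤ m := by omega
    change c.U ⊔ (c.D ⊓ N c hm) = c.D
    rw [D_inf_N c hm hI hJ]
    rfl

/-- The Weyl group: `nI nJ nI⁻¹ nJ⁻¹ ∉ B` for `m ≥ 3`. -/
theorem comm_not_mem (h3 : 3 ≤ m) (hI : c.nI ∉ c.D) (hJ : c.nJ ∉ c.D) :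
    c.nI * c.nJ * c.nI⁻¹ * c.nJ⁻¹ ∉ c.D := by
  intro h
  have hm : 1 ≤ m := by omega
  have h1 : c.nI * c.nJ * c.nI⁻¹ * c.nJ⁻¹ ∈ c.H := by
    rw [← D_inf_N c hm hI hJ]
    exact ⟨h, isW_mul c hm (isW_mul c hm (isW_mul c hm (isW_nI c hm) (isW_nJ c hm)) (isW_nI_inv c hm))
      (isW_nJ_inv c hm)⟩
  -- `nI⁻¹ AJ' nI ≤ U`
  have h2 : ∀ a ∈ c.AJ', c.nI⁻¹ * a * c.nI ∈ c.U := by
    intro a ha
    set k := c.nJ⁻¹ * (c.nI * c.nJ * c.nI⁻¹ * c.nJ⁻¹) * c.nJ with hk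
    have hkH : k ∈ c.H := Core.IsW.conj_H c (isW_nJ c hm) _ h1
    have h4 : c.nJ * (k * a * k⁻¹) * c.nJ⁻¹ ∈ c.AJ := c.sJ.nA' _ (c.sJ.HA' k hkH a ha)
    have h5 := c.posJ 2 (by omega) _ h4
    have e0 : alt c.nI c.nJ 2 = c.nI * c.nJ := by simp [alt]
    rw [e0] at h5
    have e : (c.nI * c.nJ)⁻¹ * (c.nJ * (k * a * k⁻¹) * c.nJ⁻¹) * (c.nI * c.nJ) = c.nI⁻¹ * a * c.nI := by
      rw [hk]; group
    rwa [e] at h5
  have h3' : ∀ a ∈ c.AJ, c.nI⁻¹ * a * c.nI ∈ c.U := by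
    intro a ha
    have h5 := c.posJ 1 (by omega) _ ha
    simpa [alt] using h5
  have h4 : c.AJ ⊔ c.AJ' ≤ c.U.comap (MulAut.conj c.nI⁻¹).toMonoidHom := by
    refine sup_le ?_ ?_
    · intro a ha
      rw [Subgroup.mem_comap]
      simpa using h3' a ha
    · intro a ha
      rw [Subgroup.mem_comap]
      simpa using h2 a ha
  have h5 : c.nI⁻¹ * c.nJ * c.nI ∈ c.U := by
    have := h4 c.sJ.mem
    rw [Subgroup.mem_comap] at this
    simpa using this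
  have h6 : c.nI⁻¹ * c.nJ * c.nI ∈ c.H := by
    rw [← D_inf_N c hm hI hJ]
    exact ⟨c.U_le h5, isW_mul c hm (isW_mul c hm (isW_nI_inv c hm) (isW_nJ c hm)) (isW_nI c hm)⟩
  have h7 := Core.IsW.conj_H c (isW_nI_inv c hm) _ h6
  have e : (c.nI⁻¹)⁻¹ * (c.nI⁻¹ * c.nJ * c.nI) * c.nI⁻¹ = c.nJ := by group
  rw [e] at h7
  exact hJ (c.H_le h7)

theorem irreducible_bnPair (h3 : 3 ≤ m) (hI : c.nI ∉ c.D) (hJ : c.nJ ∉ c.D) (hG : c.G = ⊤) :
    (bnPair c (by omega) hI hJ hG).Irreducible := by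
  intro J hJs hne hne'
  have h1 := comm_not_mem c h3 hI hJ
  obtain ⟨s, hs⟩ := hne
  obtain ⟨t, ht, htJ⟩ := hne'
  refine ⟨s, hs, t, ⟨ht, htJ⟩, ?_⟩
  have hst : s ≠ t := fun h => htJ (h ▸ hs)
  rcases hJs hs with rfl | rfl
  · rcases ht with rfl | rfl
    · exact absurd rfl hst
    · exact h1
  · rcases ht with rfl | rfl
    · intro h
      apply h1
      have h4 := inv_mem h
      have e : (c.nJ * c.nI * c.nJ⁻¹ * c.nI⁻¹)⁻¹ = c.nI * c.nJ * c.nI⁻¹ * c.nJ⁻¹ := by group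
      rw [e] at h4
      exact h4
    · exact absurd rfl hst

end Cfsg.Agent.Close.CoreBN
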