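import Cfsg.Agent.Close.Refl
import Cfsg.Agent.Close.CoreBN

/-!
# Root data of rank two without the braid relation (helper870)

`Pre m Y`: positive root groups `X 1, …, X m`, torus `H`, reflections `nI`, `nJ`: all fields of `R2 m Y` except `braid`.
`Pre.refl_I j`: the reflection `alt nI nJ (2j+1)` in the root `j+1`; `Pre.refl_J j`: `alt nJ nI (2j+1)` in the root `m-j`.
`Pre.braid_even` (`m = 2k`), `Pre.braid_odd` (`m = 2k+1`): the braid relation from the uniqueness of the opposite of one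
root group (`Tr`).
-/

set_option autoImplicit false

namespace Cfsg.Agent.Close.Pre

open Cfsg.Agent.TitsThree.RankTwoRGD Cfsg.Agent.TitsThree.RankTwoIdx Cfsg.Agent.Close.RootRefl
open scoped commutatorElement

universe u

/-- Root data of rank two without the braid relation. -/
structure PreR2 (m : ℕ) (Y : Type u) [Group Y] where
  X : ℕ → Subgroup Y
  (XI' XJ' H : Subgroup Y)
  (nI nJ : Y)
  one_le : 1 ≤ m
  comm : ∀ k l, 1 ≤ k → k < l → l ≤ m → ∀ x ∈ X k, ∀ y ∈ X l, ⁅x, y⁆ ∈ ⨆ r ∈ Set.Ioo k l, X r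
  HX : ∀ h ∈ H, ∀ k, 1 ≤ k → k ≤ m → ∀ x ∈ X k, h * x * h⁻¹ ∈ X k
  nI_X : ∀ k, 2 ≤ k → k ≤ m → ∀ x ∈ X k, nI * x * nI⁻¹ ∈ X (m + 2 - k)
  nJ_X : ∀ k, 1 ≤ k → k < m → ∀ x ∈ X k, nJ * x * nJ⁻¹ ∈ X (m - k)
  nI_pos : ∀ x ∈ X 1, nI * x * nI⁻¹ ∈ XI'
  nI_neg : ∀ x ∈ XI', nI * x * nI⁻¹ ∈ X 1
  nJ_pos : ∀ x ∈ X m, nJ * x * nJ⁻¹ ∈ XJ'
  nJ_neg : ∀ x ∈ XJ', nJ * x * nJ⁻¹ ∈ X m
  nI_sq : nI * nI ∈ H
  nJ_sq : nJ * nJ ∈ H
  nI_H : ∀ h ∈ H, nI * h * nI⁻¹ ∈ H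
  nJ_H : ∀ h ∈ H, nJ * h * nJ⁻¹ ∈ H
  rank_oneI : ∀ a ∈ XI', a ≠ 1 → ∃ x ∈ X 1, ∃ h ∈ H, ∃ y ∈ X 1, a = x * nI * h * y
  rank_oneJ : ∀ a ∈ XJ', a ≠ 1 → ∃ x ∈ X m, ∃ h ∈ H, ∃ y ∈ X m, a = x * nJ * h * y
  memI : nI ∈ X 1 ⊔ XI'
  memJ : nJ ∈ X m ⊔ XJ'

namespace PreR2

variable {m : ℕ} {Y : Type u} [Group Y] (c : PreR2 m Y)

/-- adding the braid relation -/
def toR2 (b : ∃ h ∈ c.H, alt c.nI c.nJ m = alt c.nJ c.nI m * h) : R2 m Y where
  X := c.X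
  XI' := c.XI'
  XJ' := c.XJ'
  H := c.H
  nI := c.nI
  nJ := c.nJ
  one_le := c.one_le
  comm := c.comm
  HX := c.HX
  nI_X := c.nI_X
  nJ_X := c.nJ_X
  nI_pos := c.nI_pos
  nI_neg := c.nI_neg
  nJ_pos := c.nJ_pos
  nJ_neg := c.nJ_neg
  nI_sq := c.nI_sq
  nJ_sq := c.nJ_sq
  nI_H := c.nI_H
  nJ_H := c.nJ_H
  rank_oneI := c.rank_oneI
  rank_oneJ := c.rank_oneJ
  memI := c.memI
  memJ := c.memJ
  braid := b

theorem nI_H' : ∀ h ∈ c.H, c.nI⁻¹ * h * c.nI ∈ c.H := by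
  intro h hh
  have h1 : (c.nI * c.nI)⁻¹ * (c.nI * h * c.nI⁻¹) * (c.nI * c.nI) ∈ c.H :=
    c.H.mul_mem (c.H.mul_mem (c.H.inv_mem c.nI_sq) (c.nI_H h hh)) c.nI_sq
  have e : (c.nI * c.nI)⁻¹ * (c.nI * h * c.nI⁻¹) * (c.nI * c.nI) = c.nI⁻¹ * h * c.nI := by group
  rwa [e] at h1

theorem nJ_H' : ∀ h ∈ c.H, c.nJ⁻¹ * h * c.nJ ∈ c.H := by
  intro h hh
  have h1 : (c.nJ * c.nJ)⁻¹ * (c.nJ * h * c.nJ⁻¹) * (c.nJ * c.nJ) ∈ c.H :=
    c.H.mul_mem (c.H.mul_mem (c.H.inv_mem c.nJ_sq) (c.nJ_H h hh)) c.nJ_sq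
  have e : (c.nJ * c.nJ)⁻¹ * (c.nJ * h * c.nJ⁻¹) * (c.nJ * c.nJ) = c.nJ⁻¹ * h * c.nJ := by group
  rwa [e] at h1

theorem HX_inv {h : Y} (hh : h ∈ c.H) {k : ℕ} (h1 : 1 ≤ k) (h2 : k ≤ m) {x : Y} (hx : x ∈ c.X k) :
    h⁻¹ * x * h ∈ c.X k := by
  have := c.HX h⁻¹ (c.H.inv_mem hh) k h1 h2 x hx
  rwa [inv_inv] at this

/-- `nI` on the positive root groups, as an equivalence -/
theorem nI_iff {k : ℕ} (h1 : 2 ≤ k) (h2 : k ≤ m) (x : Y) : x ∈ c.X (m + 2 - k) ↔ c.nI⁻¹ * x * c.nI ∈ c.X k := by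
  constructor
  · intro hx
    have h3 := c.nI_X (m + 2 - k) (by omega) (by omega) x hx
    have e1 : m + 2 - (m + 2 - k) = k := by omega
    rw [e1] at h3
    have h4 := c.HX_inv c.nI_sq (by omega) h2 h3
    have e : (c.nI * c.nI)⁻¹ * (c.nI * x * c.nI⁻¹) * (c.nI * c.nI) = c.nI⁻¹ * x * c.nI := by group
    rwa [e] at h4
  · intro hx
    have h3 := c.nI_X k h1 h2 _ hx
    have e : c.nI * (c.nI⁻¹ * x * c.nI) * c.nI⁻¹ = x := by group
    rwa [e] at h3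

theorem nJ_iff {k : ℕ} (h1 : 1 ≤ k) (h2 : k < m) (x : Y) : x ∈ c.X (m - k) ↔ c.nJ⁻¹ * x * c.nJ ∈ c.X k := by
  constructor
  · intro hx
    have h3 := c.nJ_X (m - k) (by omega) (by omega) x hx
    have e1 : m - (m - k) = k := by omega
    rw [e1] at h3
    have h4 := c.HX_inv c.nJ_sq h1 h2.le h3
    have e : (c.nJ * c.nJ)⁻¹ * (c.nJ * x * c.nJ⁻¹) * (c.nJ * c.nJ) = c.nJ⁻¹ * x * c.nJ := by group
    rwa [e] at h4
  · intro hx
    have h3 := c.nJ_X k h1 h2 _ hx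
    have e : c.nJ * (c.nJ⁻¹ * x * c.nJ) * c.nJ⁻¹ = x := by group
    rwa [e] at h3

theorem reflI : Refl c.H (c.X 1) c.XI' c.nI where
  nA := c.nI_pos
  nA' := c.nI_neg
  HA := fun h hh a ha => c.HX h hh 1 le_rfl c.one_le a ha
  n_sq := c.nI_sq
  nH := c.nI_H
  rank_one := c.rank_oneI
  mem := c.memI

theorem reflJ : Refl c.H (c.X m) c.XJ' c.nJ where
  nA := c.nJ_pos
  nA' := c.nJ_neg
  HA := fun h hh a ha => c.HX h hh m c.one_le le_rfl a ha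
  n_sq := c.nJ_sq
  nH := c.nJ_H
  rank_one := c.rank_oneJ
  mem := c.memJ

theorem alt_append (a b : Y) (k : ℕ) : alt a b (2 * k + 1) = alt a b (2 * k) * a ∧
    alt a b (2 * k + 2) = alt a b (2 * k + 1) * b := by
  induction k generalizing a b with
  | zero => constructor <;> simp [alt]
  | succ k ih =>
    have h1 : alt a b (2 * (k + 1) + 1) = alt a b (2 * (k + 1)) * a := by
      have e : 2 * (k + 1) + 1 = (2 * k + 1 + 1) + 1 := by ring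
      have e' : 2 * (k + 1) = (2 * k + 1) + 1 := by ring
      rw [e, e', alt_succ, alt_succ a b (2 * k + 1)]
      have := (ih b a).2
      rw [show 2 * k + 1 + 1 = 2 * k + 2 from rfl, this, mul_assoc]
    refine ⟨h1, ?_⟩
    have e : 2 * (k + 1) + 2 = (2 * (k + 1) + 1) + 1 := by ring
    have e' : 2 * (k + 1) + 1 = (2 * (k + 1)) + 1 := by ring
    rw [e, alt_succ]
    have h2 : alt b a (2 * (k + 1) + 1) = alt b a (2 * (k + 1)) * b := by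
      have e : 2 * (k + 1) + 1 = (2 * k + 1 + 1) + 1 := by ring
      have e' : 2 * (k + 1) = (2 * k + 1) + 1 := by ring
      rw [e, e', alt_succ, alt_succ b a (2 * k + 1)]
      have := (ih a b).2
      rw [show 2 * k + 1 + 1 = 2 * k + 2 from rfl, this, mul_assoc]
    rw [h2, ← mul_assoc, ← alt_succ a b (2 * (k + 1))]

/-- the reflections in all positive roots -/
theorem refl_all (j : ℕ) : (j + 1 ≤ m → ∃ A' n, Refl c.H (c.X (j + 1)) A' n ∧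
      ∃ h ∈ c.H, alt c.nI c.nJ (2 * j + 1) = n * h) ∧
    (j + 1 ≤ m → ∃ A' n, Refl c.H (c.X (m - j)) A' n ∧
      ∃ h ∈ c.H, alt c.nJ c.nI (2 * j + 1) = n * h) := by
  induction j with
  | zero =>
    refine ⟨fun _ => ⟨_, _, c.reflI, 1, one_mem _, by simp [alt]⟩,
      fun _ => ⟨_, _, by simpa using c.reflJ, 1, one_mem _, by simp [alt]⟩⟩
  | succ j ih =>
    constructor
    · intro hj
      obtain ⟨A', n, hR, h, hh, e⟩ := ih.2 (by omega)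
      refine ⟨A'.map (MulAut.conj c.nI).toMonoidHom, c.nI * n * c.nI⁻¹, ?_, ?_⟩
      · refine hR.conj c.nI_H c.nI_H' ?_ ?_
        · intro b
          have := c.nI_iff (k := m - j) (by omega) (by omega) b
          rwa [show m + 2 - (m - j) = j + 1 + 1 by omega] at this
        · intro b
          constructor
          · rintro ⟨a, ha, rfl⟩
            have e : c.nI⁻¹ * ((MulAut.conj c.nI).toMonoidHom a) * c.nI = a := by
              show c.nI⁻¹ * (c.nI * a * c.nI⁻¹) * c.nI = a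
              group
            rwa [e]
          · intro hb
            refine ⟨_, hb, ?_⟩
            show c.nI * (c.nI⁻¹ * b * c.nI) * c.nI⁻¹ = b
            group
      · refine ⟨c.nI * h * c.nI, ?_, ?_⟩
        · have := c.H.mul_mem (c.nI_H h hh) c.nI_sq
          have e2 : c.nI * h * c.nI⁻¹ * (c.nI * c.nI) = c.nI * h * c.nI := by group
          rwa [e2] at this
        · have e1 : 2 * (j + 1) + 1 = (2 * j + 2) + 1 := by ring
          rw [e1, alt_succ, (alt_append c.nJ c.nI j).2, e]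
          group
    · intro hj
      obtain ⟨A', n, hR, h, hh, e⟩ := ih.1 (by omega)
      refine ⟨A'.map (MulAut.conj c.nJ).toMonoidHom, c.nJ * n * c.nJ⁻¹, ?_, ?_⟩
      · refine hR.conj c.nJ_H c.nJ_H' ?_ ?_
        · intro b
          exact c.nJ_iff (k := j + 1) (by omega) (by omega) b
        · intro b
          constructor
          · rintro ⟨a, ha, rfl⟩
            have e : c.nJ⁻¹ * ((MulAut.conj c.nJ).toMonoidHom a) * c.nJ = a := by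
              show c.nJ⁻¹ * (c.nJ * a * c.nJ⁻¹) * c.nJ = a
              group
            rwa [e]
          · intro hb
            refine ⟨_, hb, ?_⟩
            show c.nJ * (c.nJ⁻¹ * b * c.nJ) * c.nJ⁻¹ = b
            group
      · refine ⟨c.nJ * h * c.nJ, ?_, ?_⟩
        · have := c.H.mul_mem (c.nJ_H h hh) c.nJ_sq
          have e2 : c.nJ * h * c.nJ⁻¹ * (c.nJ * c.nJ) = c.nJ * h * c.nJ := by group
          rwa [e2] at this
        · have e1 : 2 * (j + 1) + 1 = (2 * j + 2) + 1 := by ring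
          rw [e1, alt_succ, (alt_append c.nI c.nJ j).2, e]
          group

/-- `A` is transitive on its other conjugates in `C`. -/
def Tr (C A : Subgroup Y) : Prop :=
  ∀ g ∈ C, ∀ g' ∈ C, (¬ ∀ a ∈ A, g * a * g⁻¹ ∈ A) → (¬ ∀ a ∈ A, g' * a * g'⁻¹ ∈ A) →
    ∃ x ∈ A, ∀ a ∈ A, (g'⁻¹ * x * g) * a * (g'⁻¹ * x * g)⁻¹ ∈ A

/-- **The braid relation, `m = 2k`.** `C` contains the reflection in the root `k` and is normalised by `nJ`. -/
theorem braid_even [Finite Y] {k : ℕ} (c : PreR2 (2 * k) Y) {C : Subgroup Y}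
    (hn : alt c.nI c.nJ (2 * k - 1) ∈ C) (hH : c.H ≤ C) (hJC : ∀ g ∈ C, c.nJ * g * c.nJ⁻¹ ∈ C)
    (hne : ¬ ∀ a ∈ c.X k, alt c.nI c.nJ (2 * k - 1) * a * (alt c.nI c.nJ (2 * k - 1))⁻¹ ∈ c.X k)
    (hint : c.X k ⊓ c.H = ⊥) (hcent : ∀ x ∈ c.X k, (∀ h ∈ c.H, h * x * h⁻¹ = x) → x = 1)
    (htr : Tr C (c.X k)) :
    ∃ h ∈ c.H, alt c.nI c.nJ (2 * k) = alt c.nJ c.nI (2 * k) * h := by
  have hk : 1 ≤ k := by have := c.one_le; omega
  obtain ⟨j, rfl⟩ := Nat.exists_eq_add_of_le' hk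
  have ej : 2 * (j + 1) - 1 = 2 * j + 1 := by omega
  rw [ej] at hn hne
  obtain ⟨A', n, hR, h0, hh0, e0⟩ := (c.refl_all j).1 (by omega)
  have hnC : n ∈ C := by
    have : n = alt c.nI c.nJ (2 * j + 1) * h0⁻¹ := by rw [e0]; group
    rw [this]
    exact mul_mem hn (inv_mem (hH hh0))
  have hR' : Refl c.H (c.X (j + 1)) (A'.map (MulAut.conj c.nJ).toMonoidHom) (c.nJ * n * c.nJ⁻¹) := by
    refine hR.conj c.nJ_H c.nJ_H' ?_ ?_
    · intro b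
      have := c.nJ_iff (k := j + 1) (by omega) (by omega) b
      rwa [show 2 * (j + 1) - (j + 1) = j + 1 by omega] at this
    · intro b
      constructor
      · rintro ⟨a, ha, rfl⟩
        have e : c.nJ⁻¹ * ((MulAut.conj c.nJ).toMonoidHom a) * c.nJ = a := by
          show c.nJ⁻¹ * (c.nJ * a * c.nJ⁻¹) * c.nJ = a
          group
        rwa [e]
      · intro hb
        refine ⟨_, hb, ?_⟩
        show c.nJ * (c.nJ⁻¹ * b * c.nJ) * c.nJ⁻¹ = b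
        group
  have hneA : ¬ A' ≤ c.X (j + 1) := by
    intro h
    apply hne
    intro a ha
    have h2 := h (hR.nA _ (hR.HA h0 hh0 a ha))
    rw [e0]
    have e : n * h0 * a * (n * h0)⁻¹ = n * (h0 * a * h0⁻¹) * n⁻¹ := by group
    rwa [e]
  have hneA' : ¬ A'.map (MulAut.conj c.nJ).toMonoidHom ≤ c.X (j + 1) := by
    intro h
    apply hneA
    intro a ha
    have h2 : c.nJ * a * c.nJ⁻¹ ∈ c.X (j + 1) := h ⟨a, ha, rfl⟩
    have h3 := (c.nJ_iff (k := j + 1) (by omega) (by omega) (c.nJ * a * c.nJ⁻¹)).1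
      (by rwa [show 2 * (j + 1) - (j + 1) = j + 1 by omega])
    have e : c.nJ⁻¹ * (c.nJ * a * c.nJ⁻¹) * c.nJ = a := by group
    rwa [e] at h3
  obtain ⟨-, h1⟩ := hR.unique hR' hneA hneA' hint hcent hnC (hJC n hnC) htr
  -- `nJ n = n h1 nJ`
  set h1' := n⁻¹ * (c.nJ * n * c.nJ⁻¹) with hh1
  have e2 : c.nJ * n = n * h1' * c.nJ := by rw [hh1]; group
  have e3 : alt c.nI c.nJ (2 * (j + 1)) = n * h0 * c.nJ :=
    ((alt_append c.nI c.nJ j).2).trans (by rw [e0])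
  have e4 : alt c.nJ c.nI (2 * (j + 1)) = c.nJ * (n * h0) :=
    (alt_succ c.nJ c.nI (2 * j + 1)).trans (by rw [e0])
  refine ⟨h0⁻¹ * (c.nJ⁻¹ * (h1'⁻¹ * h0) * c.nJ), ?_, ?_⟩
  · exact mul_mem (inv_mem hh0) (c.nJ_H' _ (mul_mem (inv_mem h1) hh0))
  · rw [e3, e4]
    have e5 : c.nJ * (n * h0) * (h0⁻¹ * (c.nJ⁻¹ * (h1'⁻¹ * h0) * c.nJ)) =
        (c.nJ * n) * c.nJ⁻¹ * h1'⁻¹ * h0 * c.nJ := by group
    rw [e5, e2]
    group

/-- **The braid relation, `m = 2k + 1`.** `C` contains both reflections in the root `k + 1`. -/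
theorem braid_odd [Finite Y] {k : ℕ} (c : PreR2 (2 * k + 1) Y) {C : Subgroup Y}
    (hn : alt c.nI c.nJ (2 * k + 1) ∈ C) (hn' : alt c.nJ c.nI (2 * k + 1) ∈ C) (hH : c.H ≤ C)
    (hne : ¬ ∀ a ∈ c.X (k + 1), alt c.nI c.nJ (2 * k + 1) * a * (alt c.nI c.nJ (2 * k + 1))⁻¹ ∈ c.X (k + 1))
    (hne' : ¬ ∀ a ∈ c.X (k + 1), alt c.nJ c.nI (2 * k + 1) * a * (alt c.nJ c.nI (2 * k + 1))⁻¹ ∈ c.X (k + 1))
    (hint : c.X (k + 1) ⊓ c.H = ⊥) (hcent : ∀ x ∈ c.X (k + 1), (∀ h ∈ c.H, h * x * h⁻¹ = x) → x = 1)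
    (htr : Tr C (c.X (k + 1))) :
    ∃ h ∈ c.H, alt c.nI c.nJ (2 * k + 1) = alt c.nJ c.nI (2 * k + 1) * h := by
  obtain ⟨A', n, hR, h0, hh0, e0⟩ := (c.refl_all k).1 (by omega)
  obtain ⟨A'', n', hR', h0', hh0', e0'⟩ := (c.refl_all k).2 (by omega)
  rw [show 2 * k + 1 - k = k + 1 by omega] at hR'
  have hnC : n ∈ C := by
    have : n = alt c.nI c.nJ (2 * k + 1) * h0⁻¹ := by rw [e0]; group
    rw [this]
    exact mul_mem hn (inv_mem (hH hh0))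
  have hnC' : n' ∈ C := by
    have : n' = alt c.nJ c.nI (2 * k + 1) * h0'⁻¹ := by rw [e0']; group
    rw [this]
    exact mul_mem hn' (inv_mem (hH hh0'))
  have hneA : ¬ A' ≤ c.X (k + 1) := by
    intro h
    apply hne
    intro a ha
    have h2 := h (hR.nA _ (hR.HA h0 hh0 a ha))
    rw [e0]
    have e : n * h0 * a * (n * h0)⁻¹ = n * (h0 * a * h0⁻¹) * n⁻¹ := by group
    rwa [e]
  have hneA' : ¬ A'' ≤ c.X (k + 1) := by
    intro h
    apply hne'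
    intro a ha
    have h2 := h (hR'.nA _ (hR'.HA h0' hh0' a ha))
    rw [e0']
    have e : n' * h0' * a * (n' * h0')⁻¹ = n' * (h0' * a * h0'⁻¹) * n'⁻¹ := by group
    rwa [e]
  obtain ⟨-, h1⟩ := hR'.unique hR hneA' hneA hint hcent hnC' hnC htr
  refine ⟨h0'⁻¹ * (n'⁻¹ * n) * h0, mul_mem (mul_mem (inv_mem hh0') h1) hh0, ?_⟩
  rw [e0, e0']
  group

end PreR2

end Cfsg.Agent.Close.Pre
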