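import Cfsg.Agent.TitsThree.RankTwoIdx

/-!
# Reflections of root groups and the braid relation from the torus (helper870)

`Refl H A A' n`: `n` is a reflection of the root group `A` with opposite `A'` and torus `H` (rank one rule).
`Refl.unique`: two reflections of the same root group `A` inside a group `C` in which `A` is transitive on the other
conjugates of `A` agree modulo `H`.
`Pre m Y`: root data of rank two without the braid relation. `Pre.braid_even`, `Pre.braid_three`: the braid relation.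
-/

set_option autoImplicit false

namespace Cfsg.Agent.Close.RootRefl

open Cfsg.Agent.TitsThree.RankTwoRGD Cfsg.Agent.TitsThree.RankTwoIdx
open scoped commutatorElement

universe u

variable {Y : Type u} [Group Y]

/-- A reflection of the root group `A`. -/
structure Refl (H A A' : Subgroup Y) (n : Y) : Prop where
  nA : ∀ a ∈ A, n * a * n⁻¹ ∈ A'
  nA' : ∀ a ∈ A', n * a * n⁻¹ ∈ A
  HA : ∀ h ∈ H, ∀ a ∈ A, h * a * h⁻¹ ∈ A
  n_sq : n * n ∈ H
  nH : ∀ h ∈ H, n * h * n⁻¹ ∈ H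
  rank_one : ∀ a ∈ A', a ≠ 1 → ∃ x ∈ A, ∃ h ∈ H, ∃ y ∈ A, a = x * n * h * y
  mem : n ∈ A ⊔ A'

namespace Refl

variable {H A A' : Subgroup Y} {n : Y}

section basic

variable (s : Refl H A A' n)

include s

theorem nH' : ∀ h ∈ H, n⁻¹ * h * n ∈ H := by
  intro h hh
  have h1 : (n * n)⁻¹ * (n * h * n⁻¹) * (n * n) ∈ H :=
    H.mul_mem (H.mul_mem (H.inv_mem s.n_sq) (s.nH h hh)) s.n_sq
  have e : (n * n)⁻¹ * (n * h * n⁻¹) * (n * n) = n⁻¹ * h * n := by group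
  rwa [e] at h1

theorem HA_inv : ∀ h ∈ H, ∀ a ∈ A, h⁻¹ * a * h ∈ A := by
  intro h hh a ha
  have h1 := s.HA h⁻¹ (H.inv_mem hh) a ha
  rwa [inv_inv] at h1

theorem nA_inv : ∀ a ∈ A, n⁻¹ * a * n ∈ A' := by
  intro a ha
  have h1 := s.nA _ (s.HA_inv _ s.n_sq a ha)
  have e : n * ((n * n)⁻¹ * a * (n * n)) * n⁻¹ = n⁻¹ * a * n := by group
  rwa [e] at h1

theorem nA'_inv : ∀ a ∈ A', n⁻¹ * a * n ∈ A := by
  intro a ha
  have h1 := s.HA_inv _ s.n_sq _ (s.nA' a ha)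
  have e : (n * n)⁻¹ * (n * a * n⁻¹) * (n * n) = n⁻¹ * a * n := by group
  rwa [e] at h1

theorem HA' : ∀ h ∈ H, ∀ a ∈ A', h * a * h⁻¹ ∈ A' := by
  intro h hh a ha
  have h1 := s.nA_inv _ (s.HA _ (s.nH h hh) _ (s.nA' a ha))
  have e : n⁻¹ * (n * h * n⁻¹ * (n * a * n⁻¹) * (n * h * n⁻¹)⁻¹) * n = h * a * h⁻¹ := by group
  rwa [e] at h1

/-- the rank one Bruhat decomposition of `⟨A, A'⟩` -/
theorem bruhat {g : Y} (hg : g ∈ A ⊔ A') :
    (∃ x ∈ A, ∃ h ∈ H, g = x * h) ∨ ∃ x ∈ A, ∃ h ∈ H, ∃ y ∈ A, g = x * n * h * y := by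
  -- left multiplication
  have hA : ∀ a ∈ A, ∀ g : Y, ((∃ x ∈ A, ∃ h ∈ H, g = x * h) ∨
      ∃ x ∈ A, ∃ h ∈ H, ∃ y ∈ A, g = x * n * h * y) →
      ((∃ x ∈ A, ∃ h ∈ H, a * g = x * h) ∨ ∃ x ∈ A, ∃ h ∈ H, ∃ y ∈ A, a * g = x * n * h * y) := by
    rintro a ha g (⟨x, hx, h, hh, rfl⟩ | ⟨x, hx, h, hh, y, hy, rfl⟩)
    · exact Or.inl ⟨a * x, mul_mem ha hx, h, hh, by group⟩
    · exact Or.inr ⟨a * x, mul_mem ha hx, h, hh, y, hy, by group⟩
  have hA' : ∀ a ∈ A', ∀ g : Y, ((∃ x ∈ A, ∃ h ∈ H, g = x * h) ∨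
      ∃ x ∈ A, ∃ h ∈ H, ∃ y ∈ A, g = x * n * h * y) →
      ((∃ x ∈ A, ∃ h ∈ H, a * g = x * h) ∨ ∃ x ∈ A, ∃ h ∈ H, ∃ y ∈ A, a * g = x * n * h * y) := by
    intro a ha g hg
    by_cases h1 : a = 1
    · subst h1; simpa using hg
    obtain ⟨x, hx, h, hh, y, hy, rfl⟩ := s.rank_one a ha h1
    rcases hg with ⟨x1, hx1, h1, hh1, rfl⟩ | ⟨x1, hx1, h1, hh1, y1, hy1, rfl⟩
    · refine Or.inr ⟨x, hx, h * h1, mul_mem hh hh1, h1⁻¹ * (y * x1) * h1, s.HA_inv h1 hh1 _ (mul_mem hy hx1), ?_⟩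
      group
    · have hb : h * (y * x1) * h⁻¹ ∈ A := s.HA h hh _ (mul_mem hy hx1)
      have hk : n * h * n ∈ H := by
        have h3 := mul_mem (s.nH h hh) s.n_sq
        have e3 : n * h * n⁻¹ * (n * n) = n * h * n := by group
        rwa [e3] at h3
      have e0 : x * n * h * y * (x1 * n * h1 * y1) =
          x * (n * (h * (y * x1) * h⁻¹) * n⁻¹) * (n * h * n) * h1 * y1 := by group
      by_cases h2 : n * (h * (y * x1) * h⁻¹) * n⁻¹ = 1
      · refine Or.inl ⟨x * ((n * h * n * h1) * y1 * (n * h * n * h1)⁻¹),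
          mul_mem hx (s.HA _ (mul_mem hk hh1) _ hy1), n * h * n * h1, mul_mem hk hh1, ?_⟩
        rw [e0, h2]; group
      · obtain ⟨x2, hx2, h2', hh2, y2, hy2, e2⟩ := s.rank_one _ (s.nA _ hb) h2
        refine Or.inr ⟨x * x2, mul_mem hx hx2, h2' * (n * h * n * h1), mul_mem hh2 (mul_mem hk hh1),
          (n * h * n * h1)⁻¹ * y2 * (n * h * n * h1) * y1,
          mul_mem (s.HA_inv _ (mul_mem hk hh1) _ hy2) hy1, ?_⟩
        rw [e0, e2]; group
  have key : ∀ g ∈ A ⊔ A', ∀ y : Y, ((∃ x ∈ A, ∃ h ∈ H, y = x * h) ∨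
      ∃ x ∈ A, ∃ h ∈ H, ∃ z ∈ A, y = x * n * h * z) →
      ((∃ x ∈ A, ∃ h ∈ H, g * y = x * h) ∨ ∃ x ∈ A, ∃ h ∈ H, ∃ z ∈ A, g * y = x * n * h * z) := by
    intro g hg
    have e : A ⊔ A' = Subgroup.closure ((A : Set Y) ∪ (A' : Set Y)) := by
      rw [Subgroup.closure_union, Subgroup.closure_eq, Subgroup.closure_eq]
    rw [e] at hg
    induction hg using Subgroup.closure_induction'' with
    | one => intro y hy; simpa using hy
    | mem g hg =>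
      rcases hg with hg | hg
      · exact hA g hg
      · exact hA' g hg
    | inv_mem g hg =>
      rcases hg with hg | hg
      · exact hA _ (inv_mem hg)
      · exact hA' _ (inv_mem hg)
    | mul a b _ _ ha hb =>
      intro y hy
      rw [mul_assoc]
      exact ha _ (hb _ hy)
  have := key g hg 1 (Or.inl ⟨1, one_mem _, 1, one_mem _, by simp⟩)
  simpa using this

/-- the normaliser of `A` in `⟨A, A'⟩` -/
theorem mem_of_normalizes (hne : ¬ A' ≤ A) {g : Y} (hg : g ∈ A ⊔ A') (hgA : ∀ a ∈ A, g * a * g⁻¹ ∈ A) :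
    ∃ x ∈ A, ∃ h ∈ H, g = x * h := by
  rcases s.bruhat hg with h1 | ⟨x, hx, h, hh, y, hy, rfl⟩
  · exact h1
  exfalso
  apply hne
  intro a ha
  have h2 : y⁻¹ * (h⁻¹ * (n⁻¹ * a * n) * h) * y ∈ A :=
    mul_mem (mul_mem (inv_mem hy) (s.HA_inv h hh _ (s.nA'_inv a ha))) hy
  have h3 := hgA _ h2
  have h4 := mul_mem (mul_mem (inv_mem hx) h3) hx
  have e : x⁻¹ * (x * n * h * y * (y⁻¹ * (h⁻¹ * (n⁻¹ * a * n) * h) * y) * (x * n * h * y)⁻¹) * x = a := by group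
  rwa [e] at h4

/-- an element of `⟨A, A'⟩` normalising `A` and `H` lies in `H` -/
theorem mem_H (hne : ¬ A' ≤ A) (hint : A ⊓ H = ⊥) (hcent : ∀ x ∈ A, (∀ h ∈ H, h * x * h⁻¹ = x) → x = 1)
    {g : Y} (hg : g ∈ A ⊔ A') (hgA : ∀ a ∈ A, g * a * g⁻¹ ∈ A) (hgH : ∀ h ∈ H, g * h * g⁻¹ ∈ H) : g ∈ H := by
  obtain ⟨x, hx, h, hh, rfl⟩ := s.mem_of_normalizes hne hg hgA
  have hx1 : x = 1 := by
    apply hcent x hx
    intro k hk
    have h1 : x * (h * (h⁻¹ * k * h) * h⁻¹) * x⁻¹ ∈ H := by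
      have := hgH (h⁻¹ * k * h) (mul_mem (mul_mem (inv_mem hh) hk) hh)
      have e : x * h * (h⁻¹ * k * h) * (x * h)⁻¹ = x * (h * (h⁻¹ * k * h) * h⁻¹) * x⁻¹ := by group
      rwa [e] at this
    have e1 : h * (h⁻¹ * k * h) * h⁻¹ = k := by group
    rw [e1] at h1
    have h2 : x * k * x⁻¹ * k⁻¹ ∈ H := mul_mem h1 (inv_mem hk)
    have h3 : x * k * x⁻¹ * k⁻¹ ∈ A := by
      have e2 : x * k * x⁻¹ * k⁻¹ = x * (k * x⁻¹ * k⁻¹) := by group
      rw [e2]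
      exact mul_mem hx (s.HA k hk _ (inv_mem hx))
    have h4 : x * k * x⁻¹ * k⁻¹ ∈ A ⊓ H := ⟨h3, h2⟩
    rw [hint, Subgroup.mem_bot] at h4
    have h5 : x * k = k * x := by
      have e3 : x * k * x⁻¹ * k⁻¹ * (k * x) = x * k := by group
      rw [← e3, h4, one_mul]
    rw [← h5]; group
  subst hx1
  rwa [one_mul]

/-- `N_A(A') = 1` -/
theorem eq_one_of_normalizes (hne : ¬ A' ≤ A) {x : Y} (hx : x ∈ A) (hxA : ∀ a ∈ A', x * a * x⁻¹ ∈ A') :
    x = 1 := by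
  by_contra hx1
  have h0 : n * x * n⁻¹ ∈ A' := s.nA x hx
  have h1 : n * x * n⁻¹ ≠ 1 := fun h => hx1 (by
    have : n * x = n := by simpa [mul_inv_eq_one] using h
    simpa using this)
  obtain ⟨z, hz, h, hh, y, hy, e⟩ := s.rank_one _ h0 h1
  apply hne
  intro a ha
  have h2 : y⁻¹ * (h⁻¹ * (n⁻¹ * a * n) * h) * y ∈ A :=
    mul_mem (mul_mem (inv_mem hy) (s.HA_inv h hh _ (s.nA'_inv a ha))) hy
  have h3 : n * x * n⁻¹ * (y⁻¹ * (h⁻¹ * (n⁻¹ * a * n) * h) * y) * (n * x * n⁻¹)⁻¹ ∈ A := by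
    have h4 := s.nA' _ (hxA _ (s.nA_inv _ h2))
    have e4 : ∀ b : Y, n * (x * (n⁻¹ * b * n) * x⁻¹) * n⁻¹ = n * x * n⁻¹ * b * (n * x * n⁻¹)⁻¹ := by
      intro b; group
    rwa [e4] at h4
  rw [e] at h3
  have h4 := mul_mem (mul_mem (inv_mem hz) h3) hz
  have e5 : z⁻¹ * (z * n * h * y * (y⁻¹ * (h⁻¹ * (n⁻¹ * a * n) * h) * y) * (z * n * h * y)⁻¹) * z = a := by group
  rwa [e5] at h4

end basic

/-- conjugation by an element normalising `H` -/
theorem conj (s : Refl H A A' n) {g : Y} (hg : ∀ h ∈ H, g * h * g⁻¹ ∈ H) (hg' : ∀ h ∈ H, g⁻¹ * h * g ∈ H)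
    {B B' : Subgroup Y} (hB : ∀ b, b ∈ B ↔ g⁻¹ * b * g ∈ A) (hB' : ∀ b, b ∈ B' ↔ g⁻¹ * b * g ∈ A') :
    Refl H B B' (g * n * g⁻¹) where
  nA := by
    intro a ha
    rw [hB']
    have := s.nA _ ((hB a).1 ha)
    have e : n * (g⁻¹ * a * g) * n⁻¹ = g⁻¹ * (g * n * g⁻¹ * a * (g * n * g⁻¹)⁻¹) * g := by group
    rwa [e] at this
  nA' := by
    intro a ha
    rw [hB]
    have := s.nA' _ ((hB' a).1 ha)
    have e : n * (g⁻¹ * a * g) * n⁻¹ = g⁻¹ * (g * n * g⁻¹ * a * (g * n * g⁻¹)⁻¹) * g := by group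
    rwa [e] at this
  HA := by
    intro h hh a ha
    rw [hB]
    have := s.HA _ (hg' h hh) _ ((hB a).1 ha)
    have e : g⁻¹ * h * g * (g⁻¹ * a * g) * (g⁻¹ * h * g)⁻¹ = g⁻¹ * (h * a * h⁻¹) * g := by group
    rwa [e] at this
  n_sq := by
    have := hg _ s.n_sq
    have e : g * (n * n) * g⁻¹ = g * n * g⁻¹ * (g * n * g⁻¹) := by group
    rwa [e] at this
  nH := by
    intro h hh
    have := hg _ (s.nH _ (hg' h hh))
    have e : g * (n * (g⁻¹ * h * g) * n⁻¹) * g⁻¹ = g * n * g⁻¹ * h * (g * n * g⁻¹)⁻¹ := by group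
    rwa [e] at this
  rank_one := by
    intro a ha h1
    have h2 : g⁻¹ * a * g ≠ 1 := by
      intro h
      apply h1
      have : a = g * (g⁻¹ * a * g) * g⁻¹ := by group
      rw [this, h]; group
    obtain ⟨x, hx, h, hh, y, hy, e⟩ := s.rank_one _ ((hB' a).1 ha) h2
    refine ⟨g * x * g⁻¹, ?_, g * h * g⁻¹, hg h hh, g * y * g⁻¹, ?_, ?_⟩
    · rw [hB]
      have e1 : g⁻¹ * (g * x * g⁻¹) * g = x := by group
      rwa [e1]
    · rw [hB]
      have e1 : g⁻¹ * (g * y * g⁻¹) * g = y := by group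
      rwa [e1]
    · have e2 : a = g * (g⁻¹ * a * g) * g⁻¹ := by group
      rw [e2, e]; group
  mem := by
    have h1 : A ⊔ A' ≤ (B ⊔ B').comap (MulAut.conj g).toMonoidHom := by
      refine sup_le ?_ ?_
      · intro a ha
        rw [Subgroup.mem_comap]
        apply Subgroup.mem_sup_left
        rw [hB]
        have e : g⁻¹ * ((MulAut.conj g).toMonoidHom a) * g = a := by
          show g⁻¹ * (g * a * g⁻¹) * g = a
          group
        rwa [e]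
      · intro a ha
        rw [Subgroup.mem_comap]
        apply Subgroup.mem_sup_right
        rw [hB']
        have e : g⁻¹ * ((MulAut.conj g).toMonoidHom a) * g = a := by
          show g⁻¹ * (g * a * g⁻¹) * g = a
          group
        rwa [e]
    have := h1 s.mem
    rw [Subgroup.mem_comap] at this
    exact this

/-- **Uniqueness.** Two reflections of the same root group in a group `C` in which `A` is transitive on its other
conjugates agree modulo `H`. -/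
theorem unique [Finite Y] {A'' : Subgroup Y} {n' : Y} (s : Refl H A A' n) (s' : Refl H A A'' n')
    (hne : ¬ A' ≤ A) (hne' : ¬ A'' ≤ A) (hint : A ⊓ H = ⊥)
    (hcent : ∀ x ∈ A, (∀ h ∈ H, h * x * h⁻¹ = x) → x = 1)
    {C : Subgroup Y} (hn : n ∈ C) (hn' : n' ∈ C)
    (htr : ∀ g ∈ C, ∀ g' ∈ C, (¬ ∀ a ∈ A, g * a * g⁻¹ ∈ A) → (¬ ∀ a ∈ A, g' * a * g'⁻¹ ∈ A) →
      ∃ x ∈ A, ∀ a ∈ A, (g'⁻¹ * x * g) * a * (g'⁻¹ * x * g)⁻¹ ∈ A) :
    A' = A'' ∧ n⁻¹ * n' ∈ H := by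
  have hg : ¬ ∀ a ∈ A, n * a * n⁻¹ ∈ A := by
    intro h
    apply hne
    intro a ha
    have h1 := h _ (s.nA'_inv a ha)
    have e : n * (n⁻¹ * a * n) * n⁻¹ = a := by group
    rwa [e] at h1
  have hg' : ¬ ∀ a ∈ A, n' * a * n'⁻¹ ∈ A := by
    intro h
    apply hne'
    intro a ha
    have h1 := h _ (s'.nA'_inv a ha)
    have e : n' * (n'⁻¹ * a * n') * n'⁻¹ = a := by group
    rwa [e] at h1
  obtain ⟨x, hx, hxA⟩ := htr n hn n' hn' hg hg'
  -- `x A' x⁻¹ = A''`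
  have h1 : ∀ a ∈ A', x * a * x⁻¹ ∈ A'' := by
    intro a ha
    have h2 := s'.nA _ (hxA _ (s.nA'_inv a ha))
    have e : n' * (n'⁻¹ * x * n * (n⁻¹ * a * n) * (n'⁻¹ * x * n)⁻¹) * n'⁻¹ = x * a * x⁻¹ := by group
    rwa [e] at h2
  -- surjectivity, by finiteness of the group `A`
  have h2 : ∀ a ∈ A'', x⁻¹ * a * x ∈ A' := by
    set t : Y := n'⁻¹ * x * n with ht
    have hsurj : ∀ a ∈ A, t⁻¹ * a * t ∈ A := by
      intro a ha
      have hle : A.map (MulAut.conj t).toMonoidHom ≤ A := by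
        rintro _ ⟨b, hb, rfl⟩
        exact hxA b hb
      have hcard : Nat.card (A.map (MulAut.conj t).toMonoidHom) = Nat.card A :=
        Subgroup.card_map_of_injective (MulAut.conj t).injective
      have heq : A.map (MulAut.conj t).toMonoidHom = A :=
        Subgroup.eq_of_le_of_card_ge hle hcard.ge
      rw [← heq] at ha
      obtain ⟨b, hb, rfl⟩ := ha
      have e : t⁻¹ * ((MulAut.conj t).toMonoidHom b) * t = b := by
        show t⁻¹ * (t * b * t⁻¹) * t = b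
        group
      rwa [e]
    intro a ha
    have h3 := s.nA _ (hsurj _ (s'.nA'_inv a ha))
    have e : n * (t⁻¹ * (n'⁻¹ * a * n') * t) * n⁻¹ = x⁻¹ * a * x := by rw [ht]; group
    rwa [e] at h3
  have hx1 : x = 1 := by
    apply hcent x hx
    intro h hh
    have hy : x⁻¹ * (h * x * h⁻¹) ∈ A := mul_mem (inv_mem hx) (s.HA h hh x hx)
    have hy1 : x⁻¹ * (h * x * h⁻¹) = 1 := by
      apply s.eq_one_of_normalizes hne hy
      intro a ha
      -- `a = h b h⁻¹`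
      have hb : h⁻¹ * a * h ∈ A' := by
        have := s.HA' h⁻¹ (inv_mem hh) a ha
        rwa [inv_inv] at this
      have h3 := h2 _ (s'.HA' h hh _ (h1 _ hb))
      have e : x⁻¹ * (h * (x * (h⁻¹ * a * h) * x⁻¹) * h⁻¹) * x =
          x⁻¹ * (h * x * h⁻¹) * a * (x⁻¹ * (h * x * h⁻¹))⁻¹ := by group
      rwa [e] at h3
    have e : h * x * h⁻¹ = x * (x⁻¹ * (h * x * h⁻¹)) := by group
    rw [e, hy1, mul_one]
  subst hx1
  have hAA : A' = A'' := by
    apply le_antisymm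
    · intro a ha
      simpa using h1 a ha
    · intro a ha
      simpa using h2 a ha
  subst hAA
  refine ⟨rfl, s.mem_H hne hint hcent (mul_mem (inv_mem s.mem) s'.mem) ?_ ?_⟩
  · intro a ha
    have h3 := s.nA'_inv _ (s'.nA a ha)
    have e : n⁻¹ * (n' * a * n'⁻¹) * n = n⁻¹ * n' * a * (n⁻¹ * n')⁻¹ := by group
    rwa [e] at h3
  · intro h hh
    have h3 := s.nH' _ (s'.nH h hh)
    have e : n⁻¹ * (n' * h * n'⁻¹) * n = n⁻¹ * n' * h * (n⁻¹ * n')⁻¹ := by group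
    rwa [e] at h3

end Refl

end Cfsg.Agent.Close.RootRefl
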